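/-
Common tools for the subgroups of small index of `M24`: a certified 2-subgroup, lower bounds for
orbit lengths, and invariant sets as unions of orbits.
-/
import Cfsg.Agent.Lib.Golay.StabCert
import Cfsg.Agent.Lib.Golay.M24
import Cfsg.Agent.Lib.Golay.IndexSub.Data

set_option autoImplicit false
set_option maxRecDepth 100000

namespace Cfsg.Agent.Lib.Golay.IndexSub

open Cfsg
open scoped Pointwise
open Cfsg.Agent.Lib.Orbit
open Cfsg.Agent.Lib.Golay.StabCert

/-! ### Products of image lists -/

def idList : List ℕ := List.range 24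

/-- `g` is the composition `l` after `m`, all three in the group. -/
def compOk (l m g : List ℕ) : Bool :=
  inM24 l && inM24 m && inM24 g && compList l m == g

theorem rho_comp {l m g : List ℕ} (h : compOk l m g = true) : rho g = rho l * rho m := by
  simp only [compOk, Bool.and_eq_true, beq_iff_eq] at h
  obtain ⟨⟨⟨hl, hm⟩, hg⟩, e⟩ := h
  apply Subtype.ext
  rw [Subgroup.coe_mul, rho_val hl, rho_val hm, rho_val hg, ← e,
    toPerm_mul (inM24.valid hl) (inM24.valid hm) (by rw [e]; exact inM24.valid hg)]

theorem rho_idList : rho idList = 1 := by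
  have h : inM24 idList = true := by decide +kernel
  apply Subtype.ext
  rw [rho_val h, OneMemClass.coe_one, toPerm_eq_iff (inM24.valid h)]
  intro i
  revert i
  decide +kernel

/-- The product named by a word in the sequence. -/
def prodWord (gs : List (List ℕ)) : List ℕ → List ℕ
  | [] => idList
  | k :: w => compList (gs.getD k idList) (prodWord gs w)

/-- All steps of a word are in the group and use letters below `b`. -/
def wordIn (gs : List (List ℕ)) (b : ℕ) : List ℕ → Bool
  | [] => true
  | k :: w => decide (k < b) && compOk (gs.getD k idList) (prodWord gs w) (prodWord gs (k :: w))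
      && wordIn gs b w

/-- The subgroup of the first `k` members of the sequence. -/
noncomputable def twoGrp : ℕ → Subgroup ↥M24
  | 0 => ⊥
  | k + 1 => twoGrp k ⊔ Subgroup.zpowers (rho (Data.seq.getD k idList))

theorem twoGrp_mono {i j : ℕ} (h : i ≤ j) : twoGrp i ≤ twoGrp j := by
  induction h with
  | refl => exact le_rfl
  | step _ ih => exact ih.trans le_sup_left

theorem seq_mem {k b : ℕ} (h : k < b) : rho (Data.seq.getD k idList) ∈ twoGrp b :=
  twoGrp_mono h (Subgroup.mem_sup_right (Subgroup.mem_zpowers _) :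
    rho (Data.seq.getD k idList) ∈ twoGrp (k + 1))

theorem wordIn_mem {b : ℕ} : ∀ {w : List ℕ}, wordIn Data.seq b w = true →
    rho (prodWord Data.seq w) ∈ twoGrp b
  | [], _ => by rw [prodWord, rho_idList]; exact one_mem _
  | k :: w, h => by
    simp only [wordIn, Bool.and_eq_true, decide_eq_true_eq] at h
    rw [rho_comp h.1.2]
    exact mul_mem (seq_mem h.1.1) (wordIn_mem h.2)

/-- Iterated squares. -/
def sq4 (l : List ℕ) : Bool :=
  let a := compList l l
  let b := compList a a
  let c := compList b b
  compOk l l a && compOk a a b && compOk b b c && compOk c c idList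

theorem pow_sixteen {l : List ℕ} (h : sq4 l = true) : rho l ^ 2 ^ 4 = 1 := by
  simp only [sq4, Bool.and_eq_true] at h
  obtain ⟨⟨⟨h1, h2⟩, h3⟩, h4⟩ := h
  rw [← rho_idList, rho_comp h4, rho_comp h3, rho_comp h2, rho_comp h1]
  rw [show (2:ℕ) ^ 4 = 2 * 2 * 2 * 2 from rfl, pow_mul, pow_mul, pow_mul]
  simp only [pow_two]

theorem seq_checks :
    (List.range 10).all (fun k => sq4 (Data.seq.getD k idList)) = true ∧
    (List.range 10).all (fun i => (List.range i).all fun j => Data.conjData.any fun x =>
      x.1 == i && x.2.1 == j && wordIn Data.seq i x.2.2.2 && prodWord Data.seq x.2.2.2 == x.2.2.1 &&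
      compOk (Data.seq.getD i idList) (Data.seq.getD j idList)
        (compList (Data.seq.getD i idList) (Data.seq.getD j idList)) &&
      compOk x.2.2.1 (Data.seq.getD i idList)
        (compList (Data.seq.getD i idList) (Data.seq.getD j idList))) = true := by
  decide +kernel

theorem conj_seq_mem {i j : ℕ} (hi : i < 10) (hj : j < i) :
    rho (Data.seq.getD i idList) * rho (Data.seq.getD j idList)
      * (rho (Data.seq.getD i idList))⁻¹ ∈ twoGrp i := by
  have h := List.all_eq_true.mp (List.all_eq_true.mp seq_checks.2 i (List.mem_range.mpr hi)) j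
    (List.mem_range.mpr hj)
  obtain ⟨x, -, hx⟩ := List.any_eq_true.mp h
  simp only [Bool.and_eq_true, beq_iff_eq] at hx
  obtain ⟨⟨⟨⟨⟨-, -⟩, hw⟩, he⟩, hl⟩, hr⟩ := hx
  have := wordIn_mem hw
  rw [he] at this
  rwa [← rho_comp hl, rho_comp hr, mul_inv_cancel_right]

theorem conj_closed {i : ℕ} (hi : i < 10) : ∀ j ≤ i, ∀ x ∈ twoGrp j,
    rho (Data.seq.getD i idList) * x * (rho (Data.seq.getD i idList))⁻¹ ∈ twoGrp i := by
  intro j hj
  induction j with
  | zero => intro x hx; rw [Subgroup.mem_bot.mp hx]; simp [one_mem]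
  | succ j ih =>
    intro x hx
    set g := rho (Data.seq.getD i idList)
    have hle : twoGrp (j + 1) ≤ (twoGrp i).comap (MulAut.conj g).toMonoidHom := by
      refine sup_le (fun y hy => ?_) (Subgroup.zpowers_le.mpr ?_)
      · exact ih (by omega) y hy
      · exact conj_seq_mem hi (by omega)
    exact hle hx

theorem isPGroup_twoGrp : ∀ k ≤ 10, IsPGroup 2 ↥(twoGrp k)
  | 0, _ => IsPGroup.of_bot
  | k + 1, hk => by
    set g := rho (Data.seq.getD k idList)
    have hg : g ^ 2 ^ 4 = 1 :=
      pow_sixteen (List.all_eq_true.mp seq_checks.1 k (List.mem_range.mpr hk))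
    refine IsPGroup.to_sup_of_normal_left' (isPGroup_twoGrp k (by omega)) (fun x => ⟨4, ?_⟩) ?_
    · obtain ⟨n, hn⟩ := Subgroup.mem_zpowers_iff.mp x.2
      apply Subtype.ext
      rw [SubmonoidClass.coe_pow, ← hn, ← zpow_natCast, ← zpow_mul, mul_comm, zpow_mul,
        zpow_natCast, hg, one_zpow]
      rfl
    · rw [Subgroup.zpowers_le]
      exact Subgroup.mem_normalizer_fintype fun x hx => conj_closed hk k le_rfl x hx

/-! ### Orbit bounds -/

section Bound
variable {X C : Type} [MulAction ↥M24 X] (D : Coding ↥M24 X (List ℕ) C)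

theorem card_le_orbit [Finite X] {gens : List (List ℕ)} (hv : ∀ a ∈ gens, D.valid a = true)
    (K : Subgroup ↥M24) (hg : ∀ a ∈ gens, D.rho a ∈ K) {root : C} {t : OrbTree C}
    (ht : D.treeOk gens root t = true) (hnd : ((root :: t.nodes).map D.den).Nodup) :
    t.length + 1 ≤ (MulAction.orbit K (D.den root)).ncard := by
  classical
  have hsub : (((root :: t.nodes).map D.den).toFinset : Set X) ⊆ MulAction.orbit K (D.den root) := by
    intro y hy
    rw [Finset.mem_coe, List.mem_toFinset, List.mem_map] at hy
    obtain ⟨c, hc, rfl⟩ := hy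
    rcases List.mem_cons.mp hc with rfl | hc
    · exact MulAction.mem_orbit_self _
    · obtain ⟨h, hh, e⟩ := D.treeOk_mem gens hv K hg t root ht c hc
      exact ⟨⟨h, hh⟩, e⟩
  have := Set.ncard_le_ncard hsub
  rwa [Set.ncard_coe_finset, List.toFinset_card_of_nodup hnd, List.length_map,
    List.length_cons, OrbTree.nodes, List.length_map] at this

end Bound

/-! ### Sets invariant under given permutations -/

/-- The points reached from `m` in `n` steps. -/
def reach (gs : List (List ℕ)) : ℕ → ℕ → ℕ
  | 0, m => m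
  | n + 1, m => reach gs n (gs.foldl (fun acc g => acc ||| imageMask g m) m)

theorem reach_subset {gs : List (List ℕ)} {C : Finset GolayPt} (hv : ∀ g ∈ gs, inM24 g = true)
    (hC : ∀ g ∈ gs, rho g • C = C) : ∀ (n m : ℕ), ptsOf m ⊆ C → ptsOf (reach gs n m) ⊆ C
  | 0, _, h => h
  | n + 1, m, h => by
    refine reach_subset hv hC n _ ?_
    have key : ∀ (l : List (List ℕ)) (acc : ℕ), (∀ g ∈ l, g ∈ gs) → ptsOf acc ⊆ C →
        ptsOf (l.foldl (fun a g => a ||| imageMask g m) acc) ⊆ C := by
      intro l
      induction l with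
      | nil => intro acc _ ha; exact ha
      | cons g l ih =>
        intro acc hl ha
        refine ih _ (fun x hx => hl x (List.mem_cons_of_mem _ hx)) ?_
        have hg := hl g List.mem_cons_self
        rw [ptsOf_lor]
        refine Finset.union_subset ha ?_
        have e : rho g • ptsOf m = ptsOf (imageMask g m) := maskCoding.move_den g m (hv g hg)
        rw [← e, ← hC g hg]
        exact Finset.smul_finset_subset_smul_finset h
    exact key gs m (fun g hg => hg) h

/-- The union of a list of masks. -/
def orAll (l : List ℕ) : ℕ := l.foldr (· ||| ·) 0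

theorem mem_orAll {l : List ℕ} {p : GolayPt} : p ∈ ptsOf (orAll l) ↔ ∃ o ∈ l, p ∈ ptsOf o := by
  induction l with
  | nil => simp [orAll, ptsOf_zero]
  | cons a l ih =>
    rw [orAll, List.foldr_cons, ptsOf_lor, Finset.mem_union]
    simp only [List.exists_mem_cons_iff]
    exact or_congr_right ih

/-- The masks `os` are the orbits of `gs` on the points of the mask `amb`. -/
def orbitsOk (gs : List (List ℕ)) (amb : ℕ) (os : List ℕ) : Bool :=
  gs.all inM24 && orAll os == amb &&
  os.all fun o => (List.range 24).all fun r => !o.testBit r || reach gs 5 (1 <<< r) == o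

theorem ptsOf_single {r : ℕ} (hr : r < 24) : ptsOf (1 <<< r) = {pt ⟨r, hr⟩} := by
  ext p
  rw [mem_ptsOf, Nat.one_shiftLeft, Nat.testBit_two_pow, decide_eq_true_eq, Finset.mem_singleton]
  constructor
  · intro h
    rw [← pt_idx p]; exact congrArg pt (Fin.ext h.symm)
  · rintro rfl
    rw [idx_pt]

theorem eq_union_of_orbits {gs : List (List ℕ)} {amb : ℕ} {os : List ℕ}
    (h : orbitsOk gs amb os = true) {C : Finset GolayPt} (hsub : C ⊆ ptsOf amb)
    (hC : ∀ g ∈ gs, rho g • C = C) : ∃ s ∈ os.sublists, C = ptsOf (orAll s) := by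
  classical
  simp only [orbitsOk, Bool.and_eq_true, List.all_eq_true, beq_iff_eq] at h
  obtain ⟨⟨hv, hamb⟩, hos⟩ := h
  refine ⟨os.filter fun o => decide ((ptsOf o ∩ C).Nonempty),
    List.mem_sublists.mpr List.filter_sublist, ?_⟩
  ext p
  rw [mem_orAll]
  constructor
  · intro hp
    have := hsub hp
    rw [← hamb, mem_orAll] at this
    obtain ⟨o, ho, hpo⟩ := this
    exact ⟨o, List.mem_filter.mpr ⟨ho, decide_eq_true
      ⟨p, Finset.mem_inter.mpr ⟨hpo, hp⟩⟩⟩, hpo⟩
  · rintro ⟨o, ho, hpo⟩
    rw [List.mem_filter, decide_eq_true_eq] at ho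
    obtain ⟨ho, q, hq⟩ := ho
    rw [Finset.mem_inter, mem_ptsOf] at hq
    have hb := hos o ho (idx q).val (List.mem_range.mpr (idx q).isLt)
    simp only [Bool.or_eq_true, Bool.not_eq_true', hq.1, Bool.true_eq_false, false_or,
      beq_iff_eq] at hb
    refine reach_subset hv hC 5 (1 <<< (idx q).val) ?_ (hb ▸ hpo)
    rw [ptsOf_single (idx q).isLt, Fin.eta, pt_idx, Finset.singleton_subset_iff]
    exact hq.2

theorem imageMask_bound (l : List ℕ) (m : ℕ) : imageMask l m < 2 ^ 24 := by
  refine Nat.lt_pow_two_of_testBit _ fun j hj => ?_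
  by_contra h
  rw [Bool.not_eq_false, imageMask, testBit_imageFold] at h
  rcases h with h | ⟨i, -, -, hi⟩
  · simp at h
  · have := applyNum_lt l i
    omega

/-! ### Index -/

theorem eq_of_le_of_index_eq {H K : Subgroup ↥M24} (h : H ≤ K) (e : H.index = K.index) : H = K := by
  refine le_antisymm h (Subgroup.relIndex_eq_one.mp ?_)
  have := Subgroup.relIndex_mul_index h
  rw [e] at this
  exact (Nat.mul_eq_right Subgroup.index_ne_zero_of_finite).mp this

theorem ncard_orbit_dvd_index {X : Type} [MulAction ↥M24 X] {H : Subgroup ↥M24} {x : X}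
    (h : H ≤ MulAction.stabilizer ↥M24 x) : (MulAction.orbit ↥M24 x).ncard ∣ H.index := by
  rw [← MulAction.index_stabilizer]
  exact Subgroup.index_dvd_of_le h

theorem index_pos (H : Subgroup ↥M24) : 0 < H.index :=
  Nat.pos_of_ne_zero Subgroup.index_ne_zero_of_finite

theorem card_eq_div (H : Subgroup ↥M24) : Nat.card ↥H * H.index = 244823040 := by
  rw [Subgroup.card_mul_index, card_M24]

end Cfsg.Agent.Lib.Golay.IndexSub
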