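/-
Lower bounds for the orbits of two block systems of a Sylow 2-subgroup of `M24`.
-/
import Cfsg.Agent.Lib.Golay.IndexSub.Common
import Cfsg.Agent.Lib.Golay.IndexSub.DataFam

set_option autoImplicit false
set_option maxRecDepth 1000000

namespace Cfsg.Agent.Lib.Golay.IndexSub

open Cfsg
open scoped Pointwise
open Cfsg.Agent.Lib.Orbit
open Cfsg.Agent.Lib.Golay.StabCert

theorem gensG_valid : Data.gensG.all inM24 = true := by decide +kernel

theorem t2_tree : famCoding.treeOk Data.gensG Data.fam2 Data.t2 = true ∧ Data.t2.length = 1771 := by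
  decide +kernel

theorem t2_distinct :
    distinctOk canonFam (hashFam 1000005 1048583) (Data.fam2 :: Data.t2.nodes) = true := by
  decide +kernel

theorem t8_tree : famCoding.treeOk Data.gensG Data.fam8 Data.t8 = true ∧ Data.t8.length = 1771 := by
  decide +kernel

theorem t8_distinct :
    distinctOk canonFam (hashFam 1000027 524309) (Data.fam8 :: Data.t8.nodes) = true := by
  decide +kernel

theorem fam2_orbit : 1772 ≤ (MulAction.orbit ↥M24 (famOf Data.fam2)).ncard := by
  have h := card_le_orbit famCoding (List.all_eq_true.mp gensG_valid) ⊤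
    (fun _ _ => Subgroup.mem_top _) t2_tree.1 (nodup_fam _ t2_distinct)
  rw [t2_tree.2] at h
  refine h.trans (Set.ncard_le_ncard ?_)
  rintro _ ⟨g, rfl⟩
  exact ⟨g.1, rfl⟩

theorem fam8_orbit : 1772 ≤ (MulAction.orbit ↥M24 (famOf Data.fam8)).ncard := by
  have h := card_le_orbit famCoding (List.all_eq_true.mp gensG_valid) ⊤
    (fun _ _ => Subgroup.mem_top _) t8_tree.1 (nodup_fam _ t8_distinct)
  rw [t8_tree.2] at h
  refine h.trans (Set.ncard_le_ncard ?_)
  rintro _ ⟨g, rfl⟩
  exact ⟨g.1, rfl⟩

end Cfsg.Agent.Lib.Golay.IndexSub
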