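/-
Subgroups of `M24` of odd index 759, 1771 or 253 containing the certified 2-subgroup.
-/
import Cfsg.Agent.Lib.Golay.IndexSub.FamBounds
import Cfsg.Agent.Lib.Golay.Suborbit.Sextet

set_option autoImplicit false
set_option maxRecDepth 1000000

namespace Cfsg.Agent.Lib.Golay.IndexSub

open Cfsg
open scoped Pointwise
open Cfsg.Agent.Lib.Orbit
open Cfsg.Agent.Lib.Golay.StabCert

theorem smul_pt {l : List ℕ} (h : inM24 l = true) {i : ℕ} (hi : i < 24) :
    rho l • pt ⟨i, hi⟩ = pt ⟨applyNum l i, applyNum_lt l i⟩ := by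
  show (rho l : Equiv.Perm GolayPt) (pt ⟨i, hi⟩) = _
  rw [rho_val h, toPerm_apply (inM24.valid h), listFun]
  simp [idx_pt]

/-- The base point in the octad. -/
noncomputable def ptX : GolayPt := pt ⟨0, by norm_num⟩

/-- The base point outside the octad. -/
noncomputable def ptZ : GolayPt := pt ⟨1, by norm_num⟩

/-- The first components of witnessed lists lie in the subgroup and have the stated image. -/
def witOk (d : List (List ℕ × List ℕ)) : Bool :=
  d.all fun x => inM24 x.1 && wordIn Data.seq 10 x.2 && prodWord Data.seq x.2 == x.1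

/-- The mover to the point with the given number. -/
def mover (i : ℕ) : List ℕ := (Data.moveData.getD i (idList, [])).1

theorem wit_checks : witOk Data.gxData = true ∧ witOk Data.gzData = true ∧
    witOk Data.moveData = true ∧ Data.moveData.length = 24 ∧
    ((List.range 24).all fun i => inM24 (mover i) &&
      applyNum (mover i) (if Data.maskO.testBit i then 0 else 1) == i) = true ∧
    (Data.gxData.all fun g => applyNum g.1 0 == 0) = true ∧
    (Data.gzData.all fun g => applyNum g.1 1 == 1) = true ∧
    ((List.range 10).all fun k => inM24 (Data.seq.getD k idList) &&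
      imageMask (Data.seq.getD k idList) Data.maskO == Data.maskO) = true ∧
    Data.maskO ||| Data.maskR = 2 ^ 24 - 1 ∧ Data.maskO &&& Data.maskR = 0 ∧
    (isCodeMask Data.maskO && popCount Data.maskO == 8) = true := by
  decide +kernel

theorem wit_mem {d : List (List ℕ × List ℕ)} (h : witOk d = true) {x : List ℕ × List ℕ}
    (hx : x ∈ d) : rho x.1 ∈ twoGrp 10 ∧ inM24 x.1 = true := by
  have := List.all_eq_true.mp h x hx
  simp only [Bool.and_eq_true, beq_iff_eq] at this
  obtain ⟨⟨hv, hw⟩, he⟩ := this
  exact ⟨he ▸ wordIn_mem hw, hv⟩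

theorem mover_spec (i : Fin 24) : rho (mover i.val) ∈ twoGrp 10 ∧
    rho (mover i.val) • (if Data.maskO.testBit i.val then ptX else ptZ) = pt i := by
  obtain ⟨-, -, hm, hlen, hmap, -⟩ := wit_checks
  have hi : i.val < Data.moveData.length := hlen.symm ▸ i.isLt
  have h1 := wit_mem hm (List.getElem_mem hi)
  have h2 := List.all_eq_true.mp hmap i.val (List.mem_range.mpr i.isLt)
  simp only [Bool.and_eq_true, beq_iff_eq] at h2
  refine ⟨by rw [mover, List.getD_eq_getElem _ _ hi]; exact h1.1, ?_⟩
  split
  · next hb =>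
    rw [if_pos hb] at h2
    rw [ptX, smul_pt h2.1]
    exact congrArg pt (Fin.ext h2.2)
  · next hb =>
    rw [if_neg hb] at h2
    rw [ptZ, smul_pt h2.1]
    exact congrArg pt (Fin.ext h2.2)

/-- The octad stabilised by the 2-subgroup. -/
noncomputable def baseO : Finset GolayPt := ptsOf Data.maskO

theorem baseO_mem : baseO ∈ octads := mem_octads_of_mask wit_checks.2.2.2.2.2.2.2.2.2.2

theorem mem_baseO (i : Fin 24) : pt i ∈ baseO ↔ Data.maskO.testBit i.val = true := by
  rw [baseO, mem_ptsOf, idx_pt]

theorem not_mem_baseO {p : GolayPt} (h : p ∉ baseO) : p ∈ ptsOf Data.maskR := by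
  have hu : (Data.maskO ||| Data.maskR).testBit (idx p).val = true := by
    rw [wit_checks.2.2.2.2.2.2.2.2.1, Nat.testBit_two_pow_sub_one]
    simp
  rw [Nat.testBit_lor, Bool.or_eq_true] at hu
  rw [baseO, mem_ptsOf] at h
  exact mem_ptsOf.mpr (hu.resolve_left h)

theorem twoGrp_le {K : Subgroup ↥M24} (h : ∀ k < 10, rho (Data.seq.getD k idList) ∈ K) :
    ∀ k ≤ 10, twoGrp k ≤ K
  | 0, _ => bot_le
  | k + 1, hk => sup_le (twoGrp_le h k (by omega)) (Subgroup.zpowers_le.mpr (h k (by omega)))

theorem twoGrp_stab : twoGrp 10 ≤ MulAction.stabilizer ↥M24 baseO := by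
  refine twoGrp_le (fun k hk => ?_) 10 le_rfl
  have h := List.all_eq_true.mp wit_checks.2.2.2.2.2.2.2.1 k (List.mem_range.mpr hk)
  simp only [Bool.and_eq_true, beq_iff_eq] at h
  rw [MulAction.mem_stabilizer_iff, baseO,
    show rho (Data.seq.getD k idList) • ptsOf Data.maskO
      = ptsOf (imageMask (Data.seq.getD k idList) Data.maskO) from
      maskCoding.move_den _ _ h.1, h.2]

theorem baseO_orbit {p : GolayPt} (hp : p ∈ baseO) : ∃ g ∈ twoGrp 10, g • ptX = p := by
  have h := mover_spec (idx p)
  rw [pt_idx, if_pos ((mem_baseO (idx p)).mp (by rwa [pt_idx]))] at h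
  exact ⟨_, h⟩

theorem outside_orbit {p : GolayPt} (hp : p ∉ baseO) : ∃ g ∈ twoGrp 10, g • ptZ = p := by
  have h := mover_spec (idx p)
  rw [pt_idx, if_neg (fun hb => hp (by have := (mem_baseO (idx p)).mpr hb; rwa [pt_idx] at this))] at h
  exact ⟨_, h⟩

/-! ### The candidates for blocks -/

/-- A set containing a point and stable under the movers to its points. -/
def moveTest (m : ℕ) : Bool :=
  (List.range 24).all fun i => !m.testBit i || imageMask (mover i) m == m

/-- Possible blocks of the point in the octad. -/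
def blocksX : List ℕ :=
  (Data.orbsX.sublists.map orAll).filter fun m => m.testBit 0 && moveTest m

/-- Possible blocks of the point outside. -/
def blocksZ : List ℕ :=
  (Data.orbsZ.sublists.map orAll).filter fun m => m.testBit 1 && moveTest m

/-- The family of all translates of two blocks. -/
def famList (b c : ℕ) : List ℕ :=
  (List.range 24).map fun i => imageMask (mover i) (if Data.maskO.testBit i then b else c)

theorem block_checks :
    orbitsOk (Data.gxData.map Prod.fst) Data.maskO Data.orbsX = true ∧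
    orbitsOk (Data.gzData.map Prod.fst) Data.maskR Data.orbsZ = true ∧
    reach (Data.gxData.map Prod.fst) 5 (1 <<< 1) = Data.maskR ∧
    (blocksX.all fun b => blocksZ.all fun c => !(popCount b == popCount c) || b == 1 ||
      famCoding.eqv (famList b c) Data.fam2 || famCoding.eqv (famList b c) Data.fam4 ||
      famCoding.eqv (famList b c) Data.fam8) = true ∧
    Suborbit.Sextet.isSextetCode Data.fam4 = true := by
  decide +kernel

section

variable (H : Subgroup ↥M24)

open Classical in
/-- The points lying in every translate of the octad that contains a given point. -/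
noncomputable def block (a : GolayPt) : Finset GolayPt :=
  Finset.univ.filter fun b => ∀ h ∈ H, a ∈ h • baseO → b ∈ h • baseO

theorem mem_block {a b : GolayPt} :
    b ∈ block H a ↔ ∀ h ∈ H, a ∈ h • baseO → b ∈ h • baseO := by
  simp [block]

theorem self_mem_block (a : GolayPt) : a ∈ block H a := (mem_block H).mpr fun _ _ h => h

theorem smul_block {h : ↥M24} (hh : h ∈ H) (a : GolayPt) : h • block H a = block H (h • a) := by
  ext b
  rw [← Finset.inv_smul_mem_iff, mem_block, mem_block]
  constructor
  · intro H1 k hk hak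
    have := H1 (h⁻¹ * k) (mul_mem (inv_mem hh) hk)
      (by rwa [mul_smul, ← Finset.inv_smul_mem_iff, inv_inv])
    rwa [mul_smul, Finset.smul_mem_smul_finset_iff] at this
  · intro H1 k hk hak
    have := H1 (h * k) (mul_mem hh hk)
      (by rwa [mul_smul, Finset.smul_mem_smul_finset_iff])
    rwa [mul_smul, ← Finset.inv_smul_mem_iff] at this

theorem block_subset_baseO {a : GolayPt} (ha : a ∈ baseO) : block H a ⊆ baseO := fun b hb => by
  have := (mem_block H).mp hb 1 (one_mem _) (by rwa [one_smul])
  rwa [one_smul] at this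

variable {H}

theorem block_eq (htr : ∀ a : GolayPt, ∃ h ∈ H, h • ptX = a) {a b : GolayPt}
    (hb : b ∈ block H a) : block H b = block H a := by
  have hsub : block H b ⊆ block H a := fun c hc => (mem_block H).mpr fun h hh ha =>
    (mem_block H).mp hc h hh ((mem_block H).mp hb h hh ha)
  refine Finset.eq_of_subset_of_card_le hsub ?_
  obtain ⟨h, hh, rfl⟩ := htr a
  obtain ⟨k, hk, rfl⟩ := htr b
  rw [← smul_block H hh, ← smul_block H hk, Finset.card_smul_finset, Finset.card_smul_finset]

theorem block_subset_outside (htr : ∀ a : GolayPt, ∃ h ∈ H, h • ptX = a) {a : GolayPt}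
    (ha : a ∉ baseO) : block H a ⊆ ptsOf Data.maskR := fun b hb => not_mem_baseO fun hbO =>
  ha (block_subset_baseO H hbO (block_eq htr hb ▸ self_mem_block H a))

theorem block_invariant (hP : twoGrp 10 ≤ H) {d : List (List ℕ × List ℕ)} (hd : witOk d = true)
    {i : ℕ} (hi : i < 24) (hfix : d.all (fun g => applyNum g.1 i == i) = true) :
    ∀ g ∈ d.map Prod.fst, rho g • block H (pt ⟨i, hi⟩) = block H (pt ⟨i, hi⟩) := by
  intro g hg
  obtain ⟨x, hx, rfl⟩ := List.mem_map.mp hg
  obtain ⟨hmem, hv⟩ := wit_mem hd hx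
  rw [smul_block H (hP hmem), smul_pt hv]
  exact congrArg (block H) (congrArg pt (Fin.ext (beq_iff_eq.mp (List.all_eq_true.mp hfix x hx))))

/-- A block passes the mover test. -/
theorem block_moveTest (hP : twoGrp 10 ≤ H) (htr : ∀ a : GolayPt, ∃ h ∈ H, h • ptX = a)
    {m : ℕ} (hm : m < 2 ^ 24) {a : GolayPt} (ha : a = ptX ∨ a = ptZ)
    (he : block H a = ptsOf m) : moveTest m = true := by
  rw [moveTest, List.all_eq_true]
  intro i hi
  rw [List.mem_range] at hi
  by_cases hb : m.testBit i = true
  · have hmem : pt ⟨i, hi⟩ ∈ block H a := by rw [he, mem_ptsOf, idx_pt]; exact hb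
    have hsame := block_eq htr hmem
    obtain ⟨hg, hmap⟩ := mover_spec ⟨i, hi⟩
    have hsrc : (if Data.maskO.testBit i then ptX else ptZ) = a := by
      rcases ha with rfl | rfl
      · rw [if_pos ((mem_baseO ⟨i, hi⟩).mp (block_subset_baseO H ?_ hmem))]
        rw [ptX, mem_baseO]; decide
      · rw [if_neg]
        intro hO
        have h1 := block_subset_outside htr (a := ptZ) (by rw [ptZ, mem_baseO]; decide) hmem
        rw [mem_ptsOf, idx_pt] at h1
        have h2 := Nat.testBit_land Data.maskO Data.maskR i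
        rw [wit_checks.2.2.2.2.2.2.2.2.2.1, Nat.zero_testBit, hO, h1] at h2
        simp at h2
    rw [hsrc] at hmap
    have hinv : rho (mover i) • block H a = block H a := by
      rw [smul_block H (hP hg), hmap, hsame]
    have hv : inM24 (mover i) = true := by
      have h2 := List.all_eq_true.mp wit_checks.2.2.2.2.1 i (List.mem_range.mpr hi)
      simp only [Bool.and_eq_true] at h2
      exact h2.1
    rw [he, show rho (mover i) • ptsOf m = ptsOf _ from maskCoding.move_den _ _ hv] at hinv
    simp [ptsOf_injective (imageMask_bound _ _) hm hinv]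
  · simp [Bool.eq_false_iff.mpr hb]

/-- The block of the point in the octad is not a single point. -/
theorem block_ne_single (hP : twoGrp 10 ≤ H)
    (h23 : ¬ 23 ∣ Nat.card ↥H) : block H ptX ≠ {ptX} := by
  intro hsingle
  set K := H ⊓ MulAction.stabilizer ↥M24 ptX
  have hzout : ptZ ∉ baseO := by rw [ptZ, mem_baseO]; decide
  have hxO : ptX ∈ baseO := by rw [ptX, mem_baseO]; decide
  have hR : ∀ p, p ∉ baseO → p ∈ MulAction.orbit K ptZ := by
    intro p hp
    have hC : ∀ g ∈ Data.gxData.map Prod.fst,
        rho g • (MulAction.orbit K ptZ).toFinite.toFinset = (MulAction.orbit K ptZ).toFinite.toFinset := by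
      intro g hg
      obtain ⟨x, hx, rfl⟩ := List.mem_map.mp hg
      obtain ⟨hmem, hv⟩ := wit_mem wit_checks.1 hx
      have hgK : rho x.1 ∈ K := Subgroup.mem_inf.mpr ⟨hP hmem, by
        rw [MulAction.mem_stabilizer_iff, ptX, smul_pt hv]
        exact congrArg pt (Fin.ext (beq_iff_eq.mp
          (List.all_eq_true.mp wit_checks.2.2.2.2.2.1 x hx)))⟩
      refine Finset.eq_of_subset_of_card_le (fun q hq => ?_) (Finset.card_smul_finset _ _).ge
      obtain ⟨r, hr, rfl⟩ := Finset.mem_smul_finset.mp hq
      rw [Set.Finite.mem_toFinset] at hr ⊢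
      obtain ⟨k, rfl⟩ := hr
      exact ⟨⟨rho x.1, hgK⟩ * k, mul_smul (rho x.1) k.1 ptZ⟩
    have hv : ∀ g ∈ Data.gxData.map Prod.fst, inM24 g = true := fun g hg => by
      obtain ⟨x, hx, rfl⟩ := List.mem_map.mp hg
      exact (wit_mem wit_checks.1 hx).2
    have := reach_subset hv hC 5 (1 <<< 1) (by
      rw [ptsOf_single (by norm_num), Finset.singleton_subset_iff, Set.Finite.mem_toFinset]
      exact MulAction.mem_orbit_self _)
    rw [block_checks.2.2.1] at this
    exact (Set.Finite.mem_toFinset _).mp (this (not_mem_baseO hp))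
  have hall : ({ptX}ᶜ : Set GolayPt) ⊆ MulAction.orbit K ptZ := by
    intro b hb
    by_cases hbO : b ∈ baseO
    · have hnot : b ∉ block H ptX := by rw [hsingle, Finset.mem_singleton]; exact hb
      rw [mem_block] at hnot
      push Not at hnot
      obtain ⟨h, hh, hxh, hbh⟩ := hnot
      obtain ⟨p, hp, hpx⟩ := baseO_orbit (Finset.inv_smul_mem_iff.mpr hxh)
      have hk : h * p ∈ K := Subgroup.mem_inf.mpr ⟨mul_mem hh (hP hp), by
        rw [MulAction.mem_stabilizer_iff, mul_smul, hpx, smul_inv_smul]⟩
      have hout : (h * p)⁻¹ • b ∉ baseO := by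
        rw [Finset.inv_smul_mem_iff, mul_smul, MulAction.mem_stabilizer_iff.mp (twoGrp_stab hp)]
        exact hbh
      obtain ⟨k, hk'⟩ := hR _ hout
      refine ⟨⟨h * p, hk⟩ * k, ?_⟩
      show ((h * p) * k.1) • ptZ = b
      rw [mul_smul, show k.1 • ptZ = (h * p)⁻¹ • b from hk', smul_inv_smul]
    · exact hR b hbO
  have heq : MulAction.orbit K ptZ = {ptX}ᶜ := by
    refine le_antisymm ?_ hall
    rintro _ ⟨k, rfl⟩ (hk : k • ptZ = ptX)
    have h1 : k.1 • ptZ = k.1 • ptX := hk.trans (Subgroup.mem_inf.mp k.2).2.symm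
    exact hzout (smul_left_cancel _ h1 ▸ hxO)
  have hd : (MulAction.orbit K ptZ).ncard ∣ Nat.card ↥H := by
    rw [← MulAction.index_stabilizer]
    exact (Subgroup.index_dvd_card _).trans (Subgroup.card_dvd_of_le inf_le_left)
  rw [heq, Set.ncard_compl, Set.ncard_singleton, Nat.card_eq_fintype_card, card_golayPt] at hd
  exact h23 hd

/-- In the transitive case the group fixes one of three families. -/
theorem fam_cases (hP : twoGrp 10 ≤ H) (htr : ∀ a : GolayPt, ∃ h ∈ H, h • ptX = a)
    (h23 : ¬ 23 ∣ Nat.card ↥H) :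
    H ≤ MulAction.stabilizer ↥M24 (famOf Data.fam2) ∨
    H ≤ MulAction.stabilizer ↥M24 (famOf Data.fam4) ∨
    H ≤ MulAction.stabilizer ↥M24 (famOf Data.fam8) := by
  classical
  have hxO : ptX ∈ baseO := by rw [ptX, mem_baseO]; decide
  have hzout : ptZ ∉ baseO := by rw [ptZ, mem_baseO]; decide
  have hOR := block_checks
  obtain ⟨sx, hsx, ex⟩ := eq_union_of_orbits hOR.1 (block_subset_baseO H hxO)
    (block_invariant hP wit_checks.1 (by norm_num) wit_checks.2.2.2.2.2.1)
  obtain ⟨sz, hsz, ez⟩ := eq_union_of_orbits hOR.2.1 (block_subset_outside htr hzout)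
    (block_invariant hP wit_checks.2.1 (by norm_num) wit_checks.2.2.2.2.2.2.1)
  have lt_all : Data.orbsX.sublists.all (fun s => decide (orAll s < 2 ^ 24)) = true ∧
      Data.orbsZ.sublists.all (fun s => decide (orAll s < 2 ^ 24)) = true := by decide +kernel
  have hbx : orAll sx ∈ blocksX := by
    refine List.mem_filter.mpr ⟨List.mem_map.mpr ⟨sx, hsx, rfl⟩, ?_⟩
    rw [Bool.and_eq_true]
    refine ⟨?_, block_moveTest hP htr (of_decide_eq_true (List.all_eq_true.mp lt_all.1 sx hsx))
      (Or.inl rfl) ex⟩
    have := self_mem_block H ptX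
    rwa [ex, ptX, mem_ptsOf, idx_pt] at this
  have hbz : orAll sz ∈ blocksZ := by
    refine List.mem_filter.mpr ⟨List.mem_map.mpr ⟨sz, hsz, rfl⟩, ?_⟩
    rw [Bool.and_eq_true]
    refine ⟨?_, block_moveTest hP htr (of_decide_eq_true (List.all_eq_true.mp lt_all.2 sz hsz))
      (Or.inr rfl) ez⟩
    have := self_mem_block H ptZ
    rwa [ez, ptZ, mem_ptsOf, idx_pt] at this
  have hcard : popCount (orAll sx) = popCount (orAll sz) := by
    obtain ⟨h, hh, e⟩ := htr ptZ
    rw [← card_ptsOf, ← card_ptsOf, ← ex, ← ez, ← e, ← smul_block H hh, Finset.card_smul_finset]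
  set F := (Finset.univ : Finset GolayPt).image (block H) with hF
  have hstab : H ≤ MulAction.stabilizer ↥M24 F := by
    intro h hh
    rw [MulAction.mem_stabilizer_iff]
    refine Finset.eq_of_subset_of_card_le (fun u hu => ?_) (Finset.card_smul_finset _ _).ge
    obtain ⟨t, ht, rfl⟩ := smul_mem_fam hu
    obtain ⟨a, -, rfl⟩ := Finset.mem_image.mp ht
    exact Finset.mem_image.mpr ⟨h • a, Finset.mem_univ _, (smul_block H hh a).symm⟩
  have hFeq : F = famOf (famList (orAll sx) (orAll sz)) := by
    have hpt : ∀ i : Fin 24, block H (pt i) = ptsOf (imageMask (mover i.val)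
        (if Data.maskO.testBit i.val then orAll sx else orAll sz)) := by
      intro i
      obtain ⟨hg, hmap⟩ := mover_spec i
      have hv : inM24 (mover i.val) = true := by
        have h2 := List.all_eq_true.mp wit_checks.2.2.2.2.1 i.val (List.mem_range.mpr i.isLt)
        simp only [Bool.and_eq_true] at h2
        exact h2.1
      rw [← hmap, ← smul_block H (hP hg)]
      split
      · rw [ex]; exact maskCoding.move_den _ _ hv
      · rw [ez]; exact maskCoding.move_den _ _ hv
    ext S
    rw [hF, Finset.mem_image, mem_famOf]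
    constructor
    · rintro ⟨a, -, rfl⟩
      exact ⟨_, List.mem_map.mpr ⟨(idx a).val, List.mem_range.mpr (idx a).isLt, rfl⟩,
        by rw [← hpt, pt_idx]⟩
    · rintro ⟨m, hm, rfl⟩
      obtain ⟨i, hi, rfl⟩ := List.mem_map.mp hm
      exact ⟨pt ⟨i, List.mem_range.mp hi⟩, Finset.mem_univ _, hpt ⟨i, List.mem_range.mp hi⟩⟩
  have hne : (orAll sx == 1) = false := by
    rw [beq_eq_false_iff_ne]
    intro e
    refine block_ne_single hP h23 ?_
    rw [ex, e]
    exact ptsOf_single (r := 0) (by norm_num)
  have h := List.all_eq_true.mp (List.all_eq_true.mp hOR.2.2.2.1 _ hbx) _ hbz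
  simp only [hcard, beq_self_eq_true, Bool.not_true, Bool.false_or, hne, Bool.or_eq_true] at h
  rcases h with (h | h) | h
  · exact Or.inl (by rw [hFeq, show famOf _ = _ from famCoding.eqv_sound _ _ h] at hstab; exact hstab)
  · exact Or.inr (Or.inl (by
      rw [hFeq, show famOf _ = _ from famCoding.eqv_sound _ _ h] at hstab; exact hstab))
  · exact Or.inr (Or.inr (by
      rw [hFeq, show famOf _ = _ from famCoding.eqv_sound _ _ h] at hstab; exact hstab))

end

theorem index_stab_octad {o : Finset GolayPt} (ho : o ∈ octads) :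
    (MulAction.stabilizer ↥M24 o).index = 759 := by
  have he : MulAction.orbit ↥M24 o = octads := by
    refine Set.Subset.antisymm ?_ fun o' ho' => ?_
    · rintro _ ⟨g, rfl⟩; exact smul_octad g ho
    · obtain ⟨g, hg, e⟩ := octads_transitive ho ho'
      exact ⟨⟨g, hg⟩, e⟩
  rw [MulAction.index_stabilizer, he, ncard_octads]

theorem index_stab_sextet {S : Finset (Finset GolayPt)} (hS : S ∈ sextets) :
    (MulAction.stabilizer ↥M24 S).index = 1771 := by
  obtain ⟨g, rfl⟩ := Suborbit.Sextet.transitive hS
  have he : MulAction.orbit ↥M24 (g • famOf Orbits.Sextet.base) = sextets := by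
    refine Set.Subset.antisymm ?_ fun X hX => ?_
    · rintro _ ⟨k, rfl⟩; exact smul_sextet k hS
    · obtain ⟨k, rfl⟩ := Suborbit.Sextet.transitive hX
      exact ⟨k * g⁻¹, by
        show (k * g⁻¹) • g • famOf _ = k • famOf _
        rw [mul_smul, inv_smul_smul]⟩
  rw [MulAction.index_stabilizer, he, ncard_sextets]

/-- The subgroups of these indices over the certified 2-subgroup. -/
theorem partA {H : Subgroup ↥M24} (hP : twoGrp 10 ≤ H)
    (hn : H.index = 759 ∨ H.index = 1771 ∨ H.index = 253) :
    (H.index = 759 ∧ ∃ o ∈ octads, H = MulAction.stabilizer ↥M24 o) ∨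
    (H.index = 1771 ∧ ∃ S ∈ sextets, H = MulAction.stabilizer ↥M24 S) := by
  by_cases htr : ∀ a : GolayPt, ∃ h ∈ H, h • ptX = a
  · have h23 : ¬ 23 ∣ Nat.card ↥H := by
      have hc := card_eq_div H
      rintro ⟨k, hk⟩
      rw [hk] at hc
      rcases hn with e | e | e <;> rw [e] at hc <;> omega
    rcases fam_cases hP htr h23 with h | h | h
    · have h1 := Nat.le_of_dvd (index_pos H) (ncard_orbit_dvd_index h)
      have h2 := fam2_orbit
      omega
    · have hS := Suborbit.Sextet.famOf_sextet block_checks.2.2.2.2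
      have hd := Subgroup.index_dvd_of_le h
      rw [index_stab_sextet hS] at hd
      have he : H.index = 1771 := by
        rcases hn with e | e | e
        · rw [e] at hd; norm_num at hd
        · exact e
        · rw [e] at hd; norm_num at hd
      exact Or.inr ⟨he, _, hS, eq_of_le_of_index_eq h (he.trans (index_stab_sextet hS).symm)⟩
    · have h1 := Nat.le_of_dvd (index_pos H) (ncard_orbit_dvd_index h)
      have h2 := fam8_orbit
      omega
  · -- the orbit is the octad
    push Not at htr
    obtain ⟨a, ha⟩ := htr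
    have haO : a ∉ baseO := fun h => by
      obtain ⟨g, hg, e⟩ := baseO_orbit h
      exact ha g (hP hg) e
    have hclosed : ∀ h ∈ H, h • ptX ∈ baseO := by
      intro h hh
      by_contra hout
      obtain ⟨g, hg, e⟩ := outside_orbit hout
      obtain ⟨g', hg', e'⟩ := outside_orbit haO
      refine ha (g' * g⁻¹ * h) (mul_mem (mul_mem (hP hg') (inv_mem (hP hg))) hh) ?_
      rw [mul_smul, mul_smul, ← e, inv_smul_smul, e']
    have hle : H ≤ MulAction.stabilizer ↥M24 baseO := by
      intro h hh
      rw [MulAction.mem_stabilizer_iff]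
      refine Finset.eq_of_subset_of_card_le (fun u hu => ?_) (Finset.card_smul_finset _ _).ge
      obtain ⟨t, ht, rfl⟩ := Finset.mem_smul_finset.mp hu
      obtain ⟨g, hg, rfl⟩ := baseO_orbit ht
      rw [smul_smul]
      exact hclosed _ (mul_mem hh (hP hg))
    have hd := Subgroup.index_dvd_of_le hle
    rw [index_stab_octad baseO_mem] at hd
    have he : H.index = 759 := by
      rcases hn with e | e | e
      · exact e
      · rw [e] at hd; norm_num at hd
      · rw [e] at hd; norm_num at hd
    exact Or.inl ⟨he, _, baseO_mem, eq_of_le_of_index_eq hle (he.trans (index_stab_octad baseO_mem).symm)⟩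

end Cfsg.Agent.Lib.Golay.IndexSub
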