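/-
Subgroups of `M24` of index 276 containing the certified element of order 11.
-/
import Cfsg.Agent.Lib.Golay.IndexSub.PartA
import Cfsg.Agent.Lib.Golay.IndexSub.DataSet
import Cfsg.Agent.Lib.Golay.IndexSub.DataMatch
import Cfsg.Agent.Lib.Golay.Transitive

set_option autoImplicit false
set_option maxRecDepth 1000000

namespace Cfsg.Agent.Lib.Golay.IndexSub

open Cfsg
open scoped Pointwise
open Cfsg.Agent.Lib.Orbit
open Cfsg.Agent.Lib.Golay.StabCert

/-- Powers of the element of order 11, as image lists. -/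
def sigPow : ℕ → List ℕ
  | 0 => idList
  | k + 1 => compList Data.sigma (sigPow k)

/-- The element of order 11. -/
noncomputable def sig11 : ↥M24 := rho Data.sigma

theorem sig_checks : (List.range 11).all (fun k => compOk Data.sigma (sigPow k) (sigPow (k + 1))) = true ∧
    sigPow 11 = idList ∧ inM24 Data.sigma = true ∧ applyNum Data.sigma 1 = 2 ∧
    ((List.range 24).all fun i => !(applyNum Data.sigma i == i) || i == 0 || i == 23) = true ∧
    applyNum Data.sigma 23 = 23 ∧ applyNum Data.sigma 0 = 0 := by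
  decide +kernel

theorem rho_sigPow : ∀ k ≤ 11, rho (sigPow k) = sig11 ^ k
  | 0, _ => by rw [sigPow, rho_idList, pow_zero]
  | k + 1, hk => by
    rw [rho_comp (List.all_eq_true.mp sig_checks.1 k (List.mem_range.mpr (by omega))),
      rho_sigPow k (by omega), pow_succ']
    rfl

theorem orderOf_sig11 : orderOf sig11 = 11 := by
  haveI : Fact (Nat.Prime 11) := ⟨by norm_num⟩
  refine orderOf_eq_prime ?_ fun h => ?_
  · rw [← rho_sigPow 11 le_rfl, sig_checks.2.1, rho_idList]
  · have := smul_pt sig_checks.2.2.1 (i := 1) (by norm_num)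
    rw [show rho Data.sigma = 1 from h, one_smul] at this
    have e := congrArg (fun p => (idx p).val) this
    simp only [idx_pt, sig_checks.2.2.2.1] at e
    omega

/-- The first base point. -/
noncomputable def ptE : GolayPt := pt ⟨23, by norm_num⟩

/-- The orbit of the element of order 11 on sets: `m` is one of the candidates. -/
def candSets (l : List ℕ) (b : ℕ) : List ℕ :=
  (l.sublists.map orAll).filter fun m => m.testBit b

def cycles : List ℕ := [1, 2 ^ 23, Data.maskA, Data.maskB]

theorem cand_checks :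
    orbitsOk [sigPow 1, sigPow 2, sigPow 4, sigPow 8] (2 ^ 24 - 1) cycles = true ∧
    ((candSets cycles 23).all fun m => m == 2 ^ 23 || m == 2 ^ 23 + 1 ||
      m == (2 ^ 23 ||| Data.maskA) || m == (2 ^ 23 ||| Data.maskB) || m == 2 ^ 24 - 1 ||
      !(887040 % popCount m == 0)) = true ∧
    orbitsOk [sigPow 1, sigPow 2, sigPow 4, sigPow 8] (2 ^ 23 - 1) [1, Data.maskA, Data.maskB] = true ∧
    ((candSets [1, Data.maskA, Data.maskB] 0).all fun m => m == 1 ||
      m == (1 ||| Data.maskA) || m == (1 ||| Data.maskB) || !(36960 % popCount m == 0)) = true := by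
  decide +kernel

theorem gensI_checks : Data.gensI.all (fun g => inM24 g && applyNum g 23 == 23) = true := by
  decide +kernel

theorem set_trees :
    maskCoding.treeOk Data.gensG (2 ^ 23 ||| Data.maskA) Data.tA = true ∧
    maskCoding.treeOk Data.gensG (2 ^ 23 ||| Data.maskB) Data.tB = true ∧
    maskCoding.treeOk Data.gensI (1 ||| Data.maskA) Data.tA11 = true ∧
    maskCoding.treeOk Data.gensI (1 ||| Data.maskB) Data.tB11 = true ∧
    Data.tA.length = 276 ∧ Data.tB.length = 276 ∧ Data.tA11.length = 276 ∧ Data.tB11.length = 276 ∧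
    distinctOk (fun m => decide (m < 2 ^ 24)) (· % 4825) ((2 ^ 23 ||| Data.maskA) :: Data.tA.nodes) = true ∧
    distinctOk (fun m => decide (m < 2 ^ 24)) (· % 4096) ((2 ^ 23 ||| Data.maskB) :: Data.tB.nodes) = true ∧
    distinctOk (fun m => decide (m < 2 ^ 24)) (· % 2048) ((1 ||| Data.maskA) :: Data.tA11.nodes) = true ∧
    distinctOk (fun m => decide (m < 2 ^ 24)) (· % 5791) ((1 ||| Data.maskB) :: Data.tB11.nodes) = true := by
  decide +kernel

/-- The certificates for the eleven pairings: tree and key. -/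
def matchCerts : List (OrbTree (List ℕ) × ℕ) :=
  [(Data.tm0, 1000003), (Data.tm1, 1000011), (Data.tm2, 1000023), (Data.tm3, 1000031),
    (Data.tm4, 1000051), (Data.tm5, 1000013), (Data.tm6, 1000009), (Data.tm7, 1000003),
    (Data.tm8, 1000007), (Data.tm9, 1000063), (Data.tm10, 1000015)]

theorem match_trees : ((List.range 11).all fun k =>
    match matchCerts[k]?, Data.matchings[k]? with
    | some c, some F => famCoding.treeOk Data.gensG F c.1 && c.1.length == 276 &&
        distinctOk canonFam (hashFam c.2 16411) (F :: c.1.nodes)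
    | _, _ => false) = true ∧ Data.matchings.length = 11 := by
  decide +kernel

theorem matching_orbit {F : List ℕ} (hF : F ∈ Data.matchings) :
    277 ≤ (MulAction.orbit ↥M24 (famOf F)).ncard := by
  obtain ⟨k, hk, rfl⟩ := List.mem_iff_getElem.mp hF
  have h := List.all_eq_true.mp match_trees.1 k (List.mem_range.mpr (match_trees.2 ▸ hk))
  rw [List.getElem?_eq_getElem hk] at h
  cases hc : matchCerts[k]? with
  | none => rw [hc] at h; exact absurd h Bool.false_ne_true
  | some c =>
    rw [hc] at h
    simp only [Bool.and_eq_true, beq_iff_eq] at h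
    have h2 := card_le_orbit famCoding (List.all_eq_true.mp gensG_valid) ⊤
      (fun _ _ => Subgroup.mem_top _) h.1.1 (nodup_fam _ h.2)
    rw [h.1.2] at h2
    refine h2.trans (Set.ncard_le_ncard ?_)
    rintro _ ⟨g, rfl⟩
    exact ⟨g.1, rfl⟩

theorem setA_orbit {root : ℕ} {t : OrbTree ℕ} {key : ℕ → ℕ}
    (ht : maskCoding.treeOk Data.gensG root t = true) (hl : t.length = 276)
    (hd : distinctOk (fun m => decide (m < 2 ^ 24)) key (root :: t.nodes) = true) :
    277 ≤ (MulAction.orbit ↥M24 (ptsOf root)).ncard := by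
  have h := card_le_orbit maskCoding (List.all_eq_true.mp gensG_valid) ⊤
    (fun _ _ => Subgroup.mem_top _) ht (nodup_mask _ hd)
  rw [hl] at h
  refine h.trans (Set.ncard_le_ncard ?_)
  rintro _ ⟨g, rfl⟩
  exact ⟨g.1, rfl⟩

theorem setI_orbit {root : ℕ} {t : OrbTree ℕ} {key : ℕ → ℕ}
    (ht : maskCoding.treeOk Data.gensI root t = true) (hl : t.length = 276)
    (hd : distinctOk (fun m => decide (m < 2 ^ 24)) key (root :: t.nodes) = true) :
    277 ≤ (MulAction.orbit (MulAction.stabilizer ↥M24 ptE) (ptsOf root)).ncard := by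
  have hv : ∀ g ∈ Data.gensI, inM24 g = true ∧ applyNum g 23 = 23 := fun g hg => by
    simpa using List.all_eq_true.mp gensI_checks g hg
  have h := card_le_orbit maskCoding (fun g hg => (hv g hg).1) (MulAction.stabilizer ↥M24 ptE)
    (fun g hg => by
      show rho g ∈ MulAction.stabilizer ↥M24 ptE
      rw [MulAction.mem_stabilizer_iff, ptE, smul_pt (hv g hg).1]
      exact congrArg pt (Fin.ext (hv g hg).2)) ht (nodup_mask _ hd)
  rw [hl] at h
  exact h

/-! ### Relative indices -/

theorem relIndex_stab {X : Type} [MulAction ↥M24 X] (H : Subgroup ↥M24) (x : X) :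
    (MulAction.stabilizer ↥M24 x).relIndex H = (MulAction.orbit H x).ncard := by
  rw [← MulAction.index_stabilizer]
  rfl

theorem index_stab_pt (p : GolayPt) : (MulAction.stabilizer ↥M24 p).index = 24 := by
  have he : MulAction.orbit ↥M24 p = Set.univ := by
    refine Set.eq_univ_of_forall fun q => ?_
    obtain ⟨g, hg, e⟩ := exists_map_list [p] [q] rfl (by simp) (by simp) (by simp)
    exact ⟨⟨g, hg⟩, (List.cons.inj e).1⟩
  rw [MulAction.index_stabilizer, he, Set.ncard_univ, Nat.card_eq_fintype_card, card_golayPt]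

theorem index_stab_duad {s : Finset GolayPt} (hs : s.card = 2) :
    (MulAction.stabilizer ↥M24 s).index = 276 := by
  classical
  have he : MulAction.orbit ↥M24 s = ((Finset.univ : Finset GolayPt).powersetCard 2 : Finset _) := by
    ext t
    rw [Finset.mem_coe, Finset.mem_powersetCard]
    constructor
    · rintro ⟨g, rfl⟩
      exact ⟨Finset.subset_univ _, (Finset.card_smul_finset g s).trans hs⟩
    · rintro ⟨-, ht⟩
      obtain ⟨a, b, hab, rfl⟩ := Finset.card_eq_two.mp hs
      obtain ⟨c, d, hcd, rfl⟩ := Finset.card_eq_two.mp ht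
      obtain ⟨g, hg, e⟩ := exists_map_list [a, b] [c, d] rfl (by simp) (by simp [hab]) (by simp [hcd])
      simp only [List.map_cons, List.map_nil, List.cons.injEq, and_true] at e
      refine ⟨⟨g, hg⟩, ?_⟩
      show (⟨g, hg⟩ : ↥M24) • ({a, b} : Finset GolayPt) = {c, d}
      rw [Finset.smul_finset_insert, Finset.smul_finset_singleton,
        show (⟨g, hg⟩ : ↥M24) • a = c from e.1, show (⟨g, hg⟩ : ↥M24) • b = d from e.2]
  rw [MulAction.index_stabilizer, he, Set.ncard_coe_finset, Finset.card_powersetCard,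
    Finset.card_univ, card_golayPt]
  decide

section

variable {H : Subgroup ↥M24}

/-- The orbit of a point as a finite set. -/
noncomputable def orbSet (K : Subgroup ↥M24) (p : GolayPt) : Finset GolayPt :=
  (MulAction.orbit K p).toFinite.toFinset

theorem orbSet_smul {K : Subgroup ↥M24} {g : ↥M24} (hg : g ∈ K) (p : GolayPt) :
    g • orbSet K p = orbSet K p := by
  refine Finset.eq_of_subset_of_card_le (fun q hq => ?_) (Finset.card_smul_finset _ _).ge
  obtain ⟨r, hr, rfl⟩ := Finset.mem_smul_finset.mp hq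
  rw [orbSet, Set.Finite.mem_toFinset] at hr ⊢
  obtain ⟨k, rfl⟩ := hr
  exact ⟨⟨g, hg⟩ * k, mul_smul g k.1 p⟩

theorem sigPow_gens {K : Subgroup ↥M24} (hK : sig11 ∈ K) {g : List ℕ}
    (hg : g ∈ [sigPow 1, sigPow 2, sigPow 4, sigPow 8]) : rho g ∈ K := by
  simp only [List.mem_cons, List.not_mem_nil, or_false] at hg
  rcases hg with rfl | rfl | rfl | rfl <;> rw [rho_sigPow _ (by norm_num)] <;> exact pow_mem hK _

/-- The orbit of a point under a group containing the element of order 11. -/
theorem orbSet_cases {K : Subgroup ↥M24} (hK : sig11 ∈ K) {l : List ℕ} {amb b : ℕ} (hb : b < 24)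
    (hos : orbitsOk [sigPow 1, sigPow 2, sigPow 4, sigPow 8] amb l = true)
    (hsub : orbSet K (pt ⟨b, hb⟩) ⊆ ptsOf amb) :
    ∃ m ∈ candSets l b, orbSet K (pt ⟨b, hb⟩) = ptsOf m ∧ popCount m ∣ Nat.card ↥K := by
  obtain ⟨s, hs, e⟩ := eq_union_of_orbits hos hsub fun g hg => orbSet_smul (sigPow_gens hK hg) _
  refine ⟨orAll s, List.mem_filter.mpr ⟨List.mem_map.mpr ⟨s, hs, rfl⟩, ?_⟩, e, ?_⟩
  · have : pt ⟨b, hb⟩ ∈ orbSet K (pt ⟨b, hb⟩) :=
      (Set.Finite.mem_toFinset _).mpr (MulAction.mem_orbit_self _)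
    rwa [e, mem_ptsOf, idx_pt] at this
  · rw [← card_ptsOf, ← e, orbSet, ← Set.ncard_eq_toFinset_card, ← MulAction.index_stabilizer]
    exact Subgroup.index_dvd_card _

theorem le_stab_orbSet (K : Subgroup ↥M24) (p : GolayPt) :
    K ≤ MulAction.stabilizer ↥M24 (orbSet K p) := fun _ hg => orbSet_smul hg p

variable (H) in
open Classical in
/-- The points fixed by the stabiliser of a point in the subgroup. -/
noncomputable def fixSet (y : GolayPt) : Finset GolayPt :=
  Finset.univ.filter fun w => ∀ h ∈ H, h • y = y → h • w = w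

theorem mem_fixSet {y w : GolayPt} : w ∈ fixSet H y ↔ ∀ h ∈ H, h • y = y → h • w = w := by
  simp [fixSet]

theorem self_mem_fixSet (y : GolayPt) : y ∈ fixSet H y := mem_fixSet.mpr fun _ _ h => h

theorem smul_fixSet {k : ↥M24} (hk : k ∈ H) (y : GolayPt) :
    k • fixSet H y = fixSet H (k • y) := by
  ext w
  rw [← Finset.inv_smul_mem_iff, mem_fixSet, mem_fixSet]
  constructor
  · intro H1 h hh hy
    have := H1 (k⁻¹ * h * k) (mul_mem (mul_mem (inv_mem hk) hh) hk)
      (by rw [mul_smul, mul_smul, hy, inv_smul_smul])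
    rw [mul_smul, mul_smul, smul_inv_smul] at this
    exact smul_left_cancel _ this
  · intro H1 h hh hy
    have := H1 (k * h * k⁻¹) (mul_mem (mul_mem hk hh) (inv_mem hk))
      (by rw [mul_smul, mul_smul, inv_smul_smul, hy])
    rw [mul_smul, mul_smul] at this
    calc h • k⁻¹ • w = k⁻¹ • k • h • k⁻¹ • w := (inv_smul_smul _ _).symm
      _ = k⁻¹ • w := by rw [this]

theorem index_inf_stab (hH : H.index = 276) (htr : ∀ p : GolayPt, MulAction.orbit H p = Set.univ)
    (p : GolayPt) : (MulAction.stabilizer ↥M24 p ⊓ H).index = 6624 := by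
  rw [← Subgroup.relIndex_mul_index (inf_le_right :
    MulAction.stabilizer ↥M24 p ⊓ H ≤ H), Subgroup.inf_relIndex_right, relIndex_stab, htr p,
    Set.ncard_univ, Nat.card_eq_fintype_card, card_golayPt, hH]

theorem fixSet_eq (hH : H.index = 276) (htr : ∀ p : GolayPt, MulAction.orbit H p = Set.univ)
    {y w : GolayPt} (hw : w ∈ fixSet H y) : fixSet H w = fixSet H y := by
  have hle : MulAction.stabilizer ↥M24 y ⊓ H ≤ MulAction.stabilizer ↥M24 w ⊓ H := fun h hh =>
    ⟨mem_fixSet.mp hw h hh.2 hh.1, hh.2⟩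
  have heq := eq_of_le_of_index_eq hle
    ((index_inf_stab hH htr y).trans (index_inf_stab hH htr w).symm)
  ext v
  rw [mem_fixSet, mem_fixSet]
  constructor
  · exact fun H1 h hh hy => H1 h hh (hle ⟨hy, hh⟩).1
  · intro H1 h hh hy
    have : h ∈ MulAction.stabilizer ↥M24 y ⊓ H := by rw [heq]; exact ⟨hy, hh⟩
    exact H1 h hh this.1

/-- The translates of a pair by the powers of the element of order 11, with the pair of fixed points. -/
def pairList (w : ℕ) : List ℕ :=
  (2 ^ 23 + 1) :: (List.range 11).map fun i => imageMask (sigPow i) (2 ||| 2 ^ w)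

theorem pairList_check : ((List.range 24).all fun w => w == 1 || w == 0 || w == 23 ||
    !((pairList w).all fun a => (pairList w).all fun b => a &&& b == 0 || a == b) ||
    (Data.matchings.any (fun F => famCoding.eqv (pairList w) F) &&
      (pairList w).foldr (· ||| ·) 0 == 2 ^ 24 - 1)) = true ∧
    ((List.range 24).all fun w => (pairList w).all fun m => decide (m < 2 ^ 24)) = true := by
  decide +kernel

theorem no_fixed_pair (hH : H.index = 276) (hsig : sig11 ∈ H)
    (htr : ∀ p : GolayPt, MulAction.orbit H p = Set.univ)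
    (hfix : ∀ h ∈ H, h • ptE = ptE → h • (pt ⟨0, by norm_num⟩ : GolayPt) = pt ⟨0, by norm_num⟩) :
    False := by
  classical
  set p0 : GolayPt := pt ⟨0, by norm_num⟩ with hp0
  have hsigpt : ∀ (i : ℕ) (hi : i < 24), sig11 • pt ⟨i, hi⟩ = pt ⟨applyNum Data.sigma i, applyNum_lt _ _⟩ :=
    fun i hi => smul_pt sig_checks.2.2.1 hi
  have hE : fixSet H ptE = ptsOf (2 ^ 23 + 1) := by
    ext w
    rw [mem_fixSet, mem_ptsOf]
    have hbit : (2 ^ 23 + 1 : ℕ).testBit (idx w).val = true ↔ (idx w).val = 0 ∨ (idx w).val = 23 := by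
      have key : ∀ i : Fin 24, (2 ^ 23 + 1 : ℕ).testBit i.val = true ↔ i.val = 0 ∨ i.val = 23 := by
        decide +kernel
      exact key (idx w)
    rw [hbit]
    constructor
    · intro H1
      have := H1 sig11 hsig (by
        rw [ptE, hsigpt]; exact congrArg pt (Fin.ext sig_checks.2.2.2.2.2.1))
      rw [← pt_idx w, hsigpt] at this
      have e := congrArg (fun p => (idx p).val) this
      simp only [idx_pt] at e
      have h5 := List.all_eq_true.mp sig_checks.2.2.2.2.1 (idx w).val (List.mem_range.mpr (idx w).isLt)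
      simpa [e] using h5
    · rintro (e | e) h hh hy
      · rw [show w = p0 by rw [hp0, ← pt_idx w]; exact congrArg pt (Fin.ext e)]
        exact hfix h hh hy
      · rw [show w = ptE by rw [ptE, ← pt_idx w]; exact congrArg pt (Fin.ext e)]
        exact hy
  set p1 : GolayPt := pt ⟨1, by norm_num⟩ with hp1
  have hc1 : (fixSet H p1).card = 2 := by
    have : p1 ∈ MulAction.orbit H ptE := by rw [htr]; trivial
    obtain ⟨k, hk⟩ := this
    rw [← show k.1 • ptE = p1 from hk, ← smul_fixSet k.2, Finset.card_smul_finset, hE, card_ptsOf]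
    decide
  obtain ⟨w, hw1, hset⟩ : ∃ w, w ≠ p1 ∧ fixSet H p1 = {p1, w} := by
    obtain ⟨a, b, hab, e⟩ := Finset.card_eq_two.mp hc1
    have := self_mem_fixSet (H := H) p1
    rw [e, Finset.mem_insert, Finset.mem_singleton] at this
    rcases this with rfl | rfl
    · exact ⟨b, Ne.symm hab, e⟩
    · exact ⟨a, hab, by rw [e, Finset.pair_comm]⟩
  set i := (idx w).val with hi
  have hmask : fixSet H p1 = ptsOf (2 ||| 2 ^ i) := by
    rw [hset, ptsOf_lor, ← Nat.one_shiftLeft i, show (2 : ℕ) = 1 <<< 1 from rfl,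
      ptsOf_single (by norm_num), ptsOf_single (idx w).isLt]
    rw [Fin.eta, pt_idx, hp1]
    rfl
  have hi1 : i ≠ 1 := fun e => hw1 (by
    rw [hp1, ← pt_idx w]; exact congrArg pt (Fin.ext e))
  have hwE : w ∉ fixSet H ptE := by
    intro h
    have h1 : w ∈ fixSet H p1 := by rw [hset]; simp
    have h2 := (fixSet_eq hH htr h1).symm.trans (fixSet_eq hH htr h)
    have h3 := self_mem_fixSet (H := H) p1
    rw [h2, hE, mem_ptsOf, hp1, idx_pt] at h3
    exact absurd h3 (by decide)
  have hi0 : i ≠ 0 ∧ i ≠ 23 := by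
    rw [hE, mem_ptsOf] at hwE
    constructor <;> intro e <;> rw [← hi, e] at hwE <;> exact hwE (by decide)
  -- every member of the list is a value of `fixSet`
  have hmem : ∀ m ∈ pairList i, ∃ y, fixSet H y = ptsOf m := by
    intro m hm
    rw [pairList, List.mem_cons, List.mem_map] at hm
    rcases hm with rfl | ⟨j, hj, rfl⟩
    · exact ⟨_, hE⟩
    · have hj' : j ≤ 11 := (List.mem_range.mp hj).le
      have hv : inM24 (sigPow j) = true := by
        have := List.all_eq_true.mp sig_checks.1 j hj
        simp only [compOk, Bool.and_eq_true] at this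
        exact this.1.1.2
      refine ⟨rho (sigPow j) • p1, ?_⟩
      rw [← smul_fixSet (by rw [rho_sigPow _ hj']; exact pow_mem hsig _), hmask]
      exact maskCoding.move_den _ _ hv
  have hlt : ∀ m ∈ pairList i, m < 2 ^ 24 := fun m hm => of_decide_eq_true
    (List.all_eq_true.mp (List.all_eq_true.mp pairList_check.2 i (List.mem_range.mpr (idx w).isLt)) m hm)
  have hcons : ((pairList i).all fun a => (pairList i).all fun b => a &&& b == 0 || a == b) = true := by
    refine List.all_eq_true.mpr fun a ha => List.all_eq_true.mpr fun b hb => ?_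
    by_cases h0 : a &&& b = 0
    · simp [h0]
    obtain ⟨y, hy⟩ := hmem a ha
    obtain ⟨z, hz⟩ := hmem b hb
    have hne : (ptsOf (a &&& b)).Nonempty := by
      rw [Finset.nonempty_iff_ne_empty, ← ptsOf_zero]
      exact fun e => h0 (ptsOf_injective (lt_of_le_of_lt Nat.and_le_left (hlt a ha)) (by norm_num) e)
    obtain ⟨v, hv⟩ := hne
    rw [ptsOf_land, Finset.mem_inter, ← hy, ← hz] at hv
    have e := (fixSet_eq hH htr hv.1).symm.trans (fixSet_eq hH htr hv.2)
    rw [hy, hz] at e
    simp [ptsOf_injective (hlt a ha) (hlt b hb) e]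
  have hchk := List.all_eq_true.mp pairList_check.1 i (List.mem_range.mpr (idx w).isLt)
  simp only [hi1, hi0.1, hi0.2, hcons, beq_iff_eq, Bool.or_eq_true, Bool.and_eq_true,
    Bool.not_true, Bool.false_eq_true, false_or, List.any_eq_true, or_false] at hchk
  obtain ⟨⟨F, hF, heqv⟩, hcover⟩ := hchk
  have hfam : (Finset.univ : Finset GolayPt).image (fixSet H) = famOf F := by
    rw [← show famOf (pairList i) = famOf F from famCoding.eqv_sound _ _ heqv]
    ext S
    rw [Finset.mem_image, mem_famOf]
    constructor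
    · rintro ⟨y, -, rfl⟩
      have : y ∈ ptsOf (orAll (pairList i)) := by
        rw [show orAll (pairList i) = _ from hcover, mem_ptsOf, Nat.testBit_two_pow_sub_one]
        simp
      obtain ⟨m, hm, hym⟩ := mem_orAll.mp this
      obtain ⟨z, hz⟩ := hmem m hm
      exact ⟨m, hm, by rw [← hz] at hym ⊢; exact (fixSet_eq hH htr hym).symm⟩
    · rintro ⟨m, hm, rfl⟩
      obtain ⟨z, hz⟩ := hmem m hm
      exact ⟨z, Finset.mem_univ _, hz⟩
  have hle : H ≤ MulAction.stabilizer ↥M24 (famOf F) := by
    intro h hh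
    rw [← hfam, MulAction.mem_stabilizer_iff]
    refine Finset.eq_of_subset_of_card_le (fun u hu => ?_) (Finset.card_smul_finset _ _).ge
    obtain ⟨t, ht, rfl⟩ := smul_mem_fam hu
    obtain ⟨a, -, rfl⟩ := Finset.mem_image.mp ht
    exact Finset.mem_image.mpr ⟨h • a, Finset.mem_univ _, (smul_fixSet hh a).symm⟩
  have h1 := Nat.le_of_dvd (index_pos H) (ncard_orbit_dvd_index hle)
  have h2 := matching_orbit hF
  omega

/-- A subgroup of index 276 containing the element of order 11 is a duad stabiliser. -/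
theorem partB (hsig : sig11 ∈ H) (hH : H.index = 276) :
    ∃ s : Finset GolayPt, s.card = 2 ∧ H = MulAction.stabilizer ↥M24 s := by
  classical
  have hcard : Nat.card ↥H = 887040 := by
    have := card_eq_div H; rw [hH] at this; omega
  obtain ⟨m, hm, hΩ, hdvd⟩ := orbSet_cases (K := H) hsig (b := 23) (by norm_num) cand_checks.1
    (fun p _ => by rw [mem_ptsOf, Nat.testBit_two_pow_sub_one]; simp)
  rw [hcard] at hdvd
  have hmc := List.all_eq_true.mp cand_checks.2.1 m hm
  simp only [Nat.mod_eq_zero_of_dvd hdvd, beq_self_eq_true, Bool.not_true, Bool.or_false,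
    Bool.or_eq_true, beq_iff_eq] at hmc
  have hle : H ≤ MulAction.stabilizer ↥M24 (ptsOf m) := hΩ ▸ le_stab_orbSet H _
  rcases hmc with (((rfl | rfl) | rfl) | rfl) | rfl
  · exfalso
    have hle' : H ≤ MulAction.stabilizer ↥M24 ptE := by
      intro h hh
      have : h • ptE ∈ orbSet H ptE := (Set.Finite.mem_toFinset _).mpr ⟨⟨h, hh⟩, rfl⟩
      rw [show orbSet H ptE = ptsOf (2 ^ 23) from hΩ, ← Nat.one_shiftLeft, ptsOf_single (by norm_num),
        Finset.mem_singleton] at this
      exact this
    have := Subgroup.index_dvd_of_le hle'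
    rw [index_stab_pt, hH] at this
    norm_num at this
  · have h2 : (ptsOf (2 ^ 23 + 1)).card = 2 := by rw [card_ptsOf]; decide
    exact ⟨_, h2, eq_of_le_of_index_eq hle (hH.trans (index_stab_duad h2).symm)⟩
  · exfalso
    have h1 := Nat.le_of_dvd (index_pos H) (ncard_orbit_dvd_index hle)
    obtain ⟨ht, -, -, -, hl, -, -, -, hd, -⟩ := set_trees
    have h2 := setA_orbit ht hl hd
    omega
  · exfalso
    have h1 := Nat.le_of_dvd (index_pos H) (ncard_orbit_dvd_index hle)
    obtain ⟨-, ht, -, -, -, hl, -, -, -, hd, -⟩ := set_trees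
    have h2 := setA_orbit ht hl hd
    omega
  · -- the group is transitive
    exfalso
    have hE : MulAction.orbit H ptE = Set.univ := by
      refine Set.eq_univ_of_forall fun p => ?_
      have hp : p ∈ orbSet H ptE := by
        rw [show orbSet H ptE = ptsOf (2 ^ 24 - 1) from hΩ, mem_ptsOf, Nat.testBit_two_pow_sub_one]
        simp
      exact (Set.Finite.mem_toFinset _).mp hp
    have htr : ∀ p : GolayPt, MulAction.orbit H p = Set.univ := fun p => by
      rw [MulAction.orbit_eq_iff.mpr (show p ∈ MulAction.orbit H ptE by rw [hE]; trivial), hE]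
    set Ha := MulAction.stabilizer ↥M24 ptE ⊓ H with hHa
    have hidx : Ha.index = 6624 := index_inf_stab hH htr ptE
    have hsigE : sig11 • ptE = ptE := by
      rw [ptE, sig11, smul_pt sig_checks.2.2.1]
      exact congrArg pt (Fin.ext sig_checks.2.2.2.2.2.1)
    have hsigHa : sig11 ∈ Ha := ⟨hsigE, hsig⟩
    have hcardA : Nat.card ↥Ha = 36960 := by
      have := card_eq_div Ha; rw [hidx] at this; omega
    obtain ⟨m, hm, hO, hdv⟩ := orbSet_cases (K := Ha) hsigHa (b := 0) (by norm_num)
      cand_checks.2.2.1 (fun p hp => by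
        rw [mem_ptsOf, Nat.testBit_two_pow_sub_one, decide_eq_true_eq]
        by_contra h23
        have he : p = ptE := by
          rw [ptE, ← pt_idx p]
          exact congrArg pt (Fin.ext (show (idx p).val = 23 by have := (idx p).isLt; omega))
        obtain ⟨k, hk⟩ := (Set.Finite.mem_toFinset _).mp hp
        have h1 : k.1 • (pt ⟨0, by norm_num⟩ : GolayPt) = k.1 • ptE :=
          (hk.trans he).trans k.2.1.symm
        have h2 := congrArg (fun p => (idx p).val) (smul_left_cancel _ h1)
        simp [ptE, idx_pt] at h2)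
    rw [hcardA] at hdv
    have hmc := List.all_eq_true.mp cand_checks.2.2.2 m hm
    simp only [Nat.mod_eq_zero_of_dvd hdv, beq_self_eq_true, Bool.not_true, Bool.or_false,
      Bool.or_eq_true, beq_iff_eq] at hmc
    have hsub : Ha ≤ MulAction.stabilizer ↥M24 (ptsOf m) := hO ▸ le_stab_orbSet Ha _
    have hrel : (MulAction.orbit (MulAction.stabilizer ↥M24 ptE) (ptsOf m)).ncard ∣ 276 := by
      have h1 : Ha.relIndex (MulAction.stabilizer ↥M24 ptE) * 24 = 6624 := by
        rw [← index_stab_pt ptE, ← hidx]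
        exact Subgroup.relIndex_mul_index inf_le_left
      have h2 : Ha.relIndex (MulAction.stabilizer ↥M24 ptE) = 276 := by omega
      rw [← relIndex_stab, ← h2]
      exact Subgroup.relIndex_dvd_of_le_left _ hsub
    rcases hmc with (rfl | rfl) | rfl
    · refine no_fixed_pair hH hsig htr fun h hh hy => ?_
      have : h • (pt ⟨0, by norm_num⟩ : GolayPt) ∈ orbSet Ha (pt ⟨0, by norm_num⟩) :=
        (Set.Finite.mem_toFinset _).mpr ⟨⟨h, ⟨hy, hh⟩⟩, rfl⟩
      rw [hO, show (1 : ℕ) = 1 <<< 0 from rfl, ptsOf_single (by norm_num), Finset.mem_singleton] at this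
      exact this
    · have h1 := Nat.le_of_dvd (by norm_num) hrel
      obtain ⟨-, -, ht, -, -, -, hl, -, -, -, hd, -⟩ := set_trees
      have h2 := setI_orbit ht hl hd
      omega
    · have h1 := Nat.le_of_dvd (by norm_num) hrel
      obtain ⟨-, -, -, ht, -, -, -, hl, -, -, -, hd⟩ := set_trees
      have h2 := setI_orbit ht hl hd
      omega

end

end Cfsg.Agent.Lib.Golay.IndexSub
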