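/-
Conjugating subgroups of small index of `M24` onto the certified ones.
-/
import Cfsg.Agent.Lib.Golay.IndexSub.PartB

set_option autoImplicit false

namespace Cfsg.Agent.Lib.Golay.IndexSub

open Cfsg
open scoped Pointwise

/-- A conjugate of a subgroup of index prime to `p` contains a given `p`-group. -/
theorem exists_conj_ge {G : Type*} [Group G] [Finite G] (p : ℕ) [Fact p.Prime] {K : Subgroup G}
    (hK : IsPGroup p ↥K) (H : Subgroup G) (hH : ¬ p ∣ H.index) :
    ∃ g : G, K ≤ H.map (MulAut.conj g).toMonoidHom := by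
  obtain ⟨S, hS⟩ := hK.exists_le_sylow
  obtain ⟨Q⟩ : Nonempty (Sylow p ↥H) := inferInstance
  have hpg : IsPGroup p ↥((Q : Subgroup ↥H).map H.subtype) := Q.2.map _
  have hidx : ¬ p ∣ ((Q : Subgroup ↥H).map H.subtype).index := by
    rw [Subgroup.index_map_subtype]
    intro h
    rcases (Fact.out : p.Prime).dvd_mul.mp h with h | h
    · exact Q.not_dvd_index h
    · exact hH h
  obtain ⟨g, hg⟩ := MulAction.exists_smul_eq G (hpg.toSylow hidx) S
  refine ⟨g, hS.trans ?_⟩
  intro x hx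
  have hx' : x ∈ (g • hpg.toSylow hidx : Sylow p G) := by rw [hg]; exact hx
  have hx'' : x ∈ (MulAut.conj g • ((hpg.toSylow hidx : Sylow p G) : Subgroup G)) := hx'
  obtain ⟨y, hy, rfl⟩ := hx''
  obtain ⟨z, -, rfl⟩ := hy
  exact ⟨z.1, z.2, rfl⟩

theorem map_conj_index (H : Subgroup ↥M24) (g : ↥M24) :
    (H.map (MulAut.conj g).toMonoidHom).index = H.index :=
  Subgroup.index_map_equiv H (MulAut.conj g)

/-- A subgroup conjugate onto a stabiliser is a stabiliser. -/
theorem eq_stab_of_map {X : Type} [MulAction ↥M24 X] {H : Subgroup ↥M24} {g : ↥M24} {x : X}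
    (h : H.map (MulAut.conj g).toMonoidHom = MulAction.stabilizer ↥M24 x) :
    H = MulAction.stabilizer ↥M24 (g⁻¹ • x) := by
  refine Subgroup.map_injective (f := (MulAut.conj g).toMonoidHom) (MulAut.conj g).injective ?_
  show H.map (MulAut.conj g).toMonoidHom = _
  rw [h, ← MulAction.stabilizer_smul_eq_stabilizer_map_conj, smul_inv_smul]

theorem isPGroup_sig : IsPGroup 11 ↥(Subgroup.zpowers sig11) := by
  refine IsPGroup.of_card (n := 1) ?_
  rw [Nat.card_zpowers, orderOf_sig11, pow_one]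

/-- Subgroups of odd index among 759, 1771, 253. -/
theorem odd_index {H : Subgroup ↥M24} (hn : H.index = 759 ∨ H.index = 1771 ∨ H.index = 253) :
    (H.index = 759 ∧ ∃ o ∈ octads, H = MulAction.stabilizer ↥M24 o) ∨
    (H.index = 1771 ∧ ∃ S ∈ sextets, H = MulAction.stabilizer ↥M24 S) := by
  obtain ⟨g, hg⟩ := exists_conj_ge 2 (isPGroup_twoGrp 10 le_rfl) H (by omega)
  rcases partA hg (by rwa [map_conj_index]) with ⟨e, o, ho, he⟩ | ⟨e, S, hS, he⟩
  · exact Or.inl ⟨map_conj_index H g ▸ e, _, StabCert.smul_octad g⁻¹ ho, eq_stab_of_map he⟩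
  · exact Or.inr ⟨map_conj_index H g ▸ e, _, StabCert.smul_sextet g⁻¹ hS, eq_stab_of_map he⟩

/-- Subgroups of index 276. -/
theorem index_276 {H : Subgroup ↥M24} (hn : H.index = 276) :
    ∃ s : Finset GolayPt, s.card = 2 ∧ H = MulAction.stabilizer ↥M24 s := by
  haveI : Fact (Nat.Prime 11) := ⟨by norm_num⟩
  obtain ⟨g, hg⟩ := exists_conj_ge 11 isPGroup_sig H (by omega)
  obtain ⟨s, hs, he⟩ := partB (hg (Subgroup.mem_zpowers _)) ((map_conj_index H g).trans hn)
  exact ⟨g⁻¹ • s, (Finset.card_smul_finset _ _).trans hs, eq_stab_of_map he⟩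

end Cfsg.Agent.Lib.Golay.IndexSub
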